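import Groth.Agent.Lib.GorOpen27.Basic
import Groth.Agent.Lib.AlgSpDecent.GorensteinAt
import Groth.Agent.S9759

/-!
# Openness of the Gorenstein locus of a flat morphism locally of finite presentation
-/

set_option autoImplicit false
universe u

open CategoryTheory CategoryTheory.Limits AlgebraicGeometry TensorProduct

noncomputable section

namespace Groth.Agent.GorOpen27

open Groth.Agent

theorem isOpen_affine {X S : Scheme.{u}} (f : X ⟶ S) [IsAffine X] [IsAffine S] [LocallyOfFinitePresentation f] [Flat f] :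
    IsOpen {x : X | Dual3.IsGorensteinAt f x} := by
  algebraize [f.appTop.hom]
  have : Algebra.FinitePresentation Γ(S, ⊤) Γ(X, ⊤) :=
    (HasRingHomProperty.iff_of_isAffine (P := @LocallyOfFinitePresentation)).1 ‹_›
  have : Module.Flat Γ(S, ⊤) Γ(X, ⊤) :=
    (HasRingHomProperty.iff_of_isAffine (P := @Flat) (f := f)).1 ‹_›
  obtain ⟨R, B₀, _, _, _, _, hR, hft, hflat, ⟨e⟩⟩ := S9759.exists_flat_approx Γ(S, ⊤) Γ(X, ⊤)
  obtain ⟨g', sq⟩ := FlatH4.isPullback_of_affine f e
  have h : {x : X | Dual3.IsGorensteinAt f x} = g' ⁻¹' {q | Dual3.IsGorensteinAt (str R B₀) q} :=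
    Set.ext fun x => Goren15.isGorensteinAt_baseChange_iff_of_flat (str R B₀) _ f g' sq x
  rw [h]
  exact (isOpen_model R B₀).preimage g'.continuous

theorem isLocallyNoetherian_fiber {X Y : Scheme.{u}} (f : X ⟶ Y) [LocallyOfFiniteType f] (y : Y) :
    IsLocallyNoetherian (f.fiber y) := by
  haveI : LocallyOfFiniteType (f.fiberToSpecResidueField y) := MorphismProperty.pullback_snd _ _ inferInstance
  exact LocallyOfFiniteType.isLocallyNoetherian (f.fiberToSpecResidueField y)

theorem isGorensteinAt_openImmersion_comp {W X Y : Scheme.{u}} (j : W ⟶ X) [IsOpenImmersion j] (f : X ⟶ Y)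
    [Flat f] [LocallyOfFiniteType f] (w : W) :
    Dual3.IsGorensteinAt (j ≫ f) w ↔ Dual3.IsGorensteinAt f (j w) := by
  rw [Goren15.isGorensteinAt_iff, Goren15.isGorensteinAt_iff,
    AlgSpDecent.GorAt.gorenstein_fibQuot_etale_comp j f w
      (Goren15.isNoetherianRing_fibQuot _ _ (isLocallyNoetherian_fiber _ _))
      (Goren15.isNoetherianRing_fibQuot _ _ (isLocallyNoetherian_fiber _ _))]
  exact and_congr_left fun _ => ⟨fun _ => Flat.stalkMap f _, fun _ => Flat.stalkMap (j ≫ f) w⟩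

theorem isGorensteinAt_comp_openImmersion {W V Y : Scheme.{u}} (m : W ⟶ V) [Flat m] (d : V ⟶ Y) [IsOpenImmersion d]
    (w : W) : Dual3.IsGorensteinAt (m ≫ d) w ↔ Dual3.IsGorensteinAt m w := by
  obtain ⟨e⟩ := AlgSpDecent.GorAt.nonempty_fibQuot_comp_etale m d w
  rw [Goren15.isGorensteinAt_iff, Goren15.isGorensteinAt_iff, Goren15.isGorensteinLocalRing_iff_of_ringEquiv e]
  exact and_congr_left fun _ => ⟨fun _ => Flat.stalkMap m w, fun _ => Flat.stalkMap (m ≫ d) w⟩

/-- The Gorenstein locus of a flat morphism locally of finite presentation is open. -/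
theorem isOpen_gorensteinLocus {X S : Scheme.{u}} (f : X ⟶ S) [Flat f] [LocallyOfFinitePresentation f] :
    IsOpen {x : X | Dual3.IsGorensteinAt f x} := by
  refine isOpen_iff_forall_mem_open.2 fun x hx => ?_
  obtain ⟨V, hV, hxV, -⟩ := exists_isAffineOpen_mem_and_subset (X := S) (x := f x) (U := ⊤) trivial
  obtain ⟨U, hU, hxU, hUV⟩ := exists_isAffineOpen_mem_and_subset (X := X) (x := x) (U := f ⁻¹ᵁ V) hxV
  haveI : IsAffine (V : Scheme.{u}) := hV
  haveI : IsAffine (U : Scheme.{u}) := hU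
  let m := f.resLE V U hUV
  have key : ∀ u : U, Dual3.IsGorensteinAt m u ↔ Dual3.IsGorensteinAt f (U.ι u) := fun u => by
    rw [← isGorensteinAt_comp_openImmersion m V.ι u,
      show m ≫ V.ι = U.ι ≫ f from Scheme.Hom.resLE_comp_ι _ _]
    exact isGorensteinAt_openImmersion_comp U.ι f u
  refine ⟨U.ι '' {u | Dual3.IsGorensteinAt m u}, ?_, U.ι.isOpenEmbedding.isOpenMap _ (isOpen_affine m),
    ⟨⟨x, hxU⟩, (key _).2 hx, rfl⟩⟩
  rintro _ ⟨u, hu, rfl⟩
  exact (key u).1 hu

end Groth.Agent.GorOpen27
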