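import Groth.Agent.Lib.GorFib27.Apps
import Groth.Agent.Lib.DlzFin27.Apps
import Groth.Agent.Lib.Dlz27.GorLocus
import Groth.Agent.Lib.Goren15.BaseChange
import Groth.Agent.Lib.FlatDepth.Locus
import Groth.Agent.Lib.DVRVal.Basic
import Groth.Agent.S0342

/-!
# Openness of the Gorenstein locus of a flat morphism: the Noetherian case
-/

set_option autoImplicit false
universe u

open CategoryTheory AlgebraicGeometry TensorProduct

attribute [local instance] HasDerivedCategory.standard

noncomputable section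

namespace Groth.Agent.GorOpen27

open Groth.Agent

instance : IsPrincipalIdealRing (ULift.{u} ℤ) :=
  IsPrincipalIdealRing.of_surjective (ULift.ringEquiv.{0, u} (R := ℤ)).symm.toRingHom
    (ULift.ringEquiv.{0, u} (R := ℤ)).symm.surjective

instance : IsDomain (ULift.{u} ℤ) := (ULift.ringEquiv.{0, u} (R := ℤ)).toMulEquiv.isDomain ℤ

theorem finiteType_int_trans (R T : Type u) [CommRing R] [CommRing T] [Algebra R T] [Algebra.FiniteType ℤ R]
    [Algebra.FiniteType R T] : Algebra.FiniteType ℤ T := by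
  have h : ((algebraMap R T).comp (algebraMap ℤ R)).FiniteType :=
    RingHom.FiniteType.comp (RingHom.finiteType_algebraMap.2 ‹_›) (RingHom.finiteType_algebraMap.2 ‹_›)
  rw [Subsingleton.elim ((algebraMap R T).comp _) (algebraMap ℤ T)] at h
  exact RingHom.finiteType_algebraMap.1 h

theorem exists_isDualizing_of_regular (R : Type u) [CommRing R] [IsNoetherianRing R] [IsRegularRing R]
    (hdim : ringKrullDim R < ⊤) : ∃ ω : Dual.D R, Dual.IsDualizing R ω :=
  ⟨_, Dlz27.isDualizing_self_of_regular (fun p => inferInstance) (fun p h => @S0342.result _ _ h) hdim⟩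

theorem exists_isDualizing_of_dedekind (R B : Type u) [CommRing R] [IsDomain R] [IsPrincipalIdealRing R] [CommRing B]
    [Algebra R B] [Algebra.FiniteType R B] : ∃ ω : Dual.D B, Dual.IsDualizing B ω := by
  have hdim : ringKrullDim R < ⊤ := by
    by_cases hF : IsField R
    · rw [ringKrullDim_eq_zero_of_isField hF]; exact WithBot.coe_lt_coe.2 (ENat.natCast_lt_top 0)
    · rw [IsPrincipalIdealRing.ringKrullDim_eq_one R hF]; exact WithBot.coe_lt_coe.2 (ENat.natCast_lt_top 1)
  obtain ⟨ω, hω⟩ := exists_isDualizing_of_regular R hdim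
  exact DlzFin27.exists_isDualizing_of_finiteType hω

theorem exists_isDualizing_of_finiteType_int (B : Type u) [CommRing B] [Algebra.FiniteType ℤ B] :
    ∃ ω : Dual.D B, Dual.IsDualizing B ω := by
  letI : Algebra (ULift.{u} ℤ) B := ((algebraMap ℤ B).comp (ULift.ringEquiv.{0, u} (R := ℤ)).toRingHom).toAlgebra
  haveI : Algebra.FiniteType (ULift.{u} ℤ) B := by
    have h : ((algebraMap (ULift.{u} ℤ) B).comp (ULift.ringEquiv.{0, u} (R := ℤ)).symm.toRingHom).FiniteType := by
      rw [Subsingleton.elim ((algebraMap (ULift.{u} ℤ) B).comp _) (algebraMap ℤ B)]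
      exact RingHom.finiteType_algebraMap.2 inferInstance
    exact RingHom.finiteType_algebraMap.1 (RingHom.FiniteType.of_comp_finiteType h)
  exact exists_isDualizing_of_dedekind (ULift.{u} ℤ) B

theorem gorenstein_stalk_iff (R : CommRingCat.{u}) (q : PrimeSpectrum R) :
    LocCoh.IsGorensteinLocalRing ((Spec R).presheaf.stalk q) ↔
      LocCoh.IsGorensteinLocalRing (Localization.AtPrime q.asIdeal) :=
  Goren15.isGorensteinLocalRing_iff_of_ringEquiv (Spec.stalkIso R q).commRingCatIsoToRingEquiv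

theorem isOpen_gorenstein_stalk (R : Type u) [CommRing R] [IsNoetherianRing R]
    (h : ∃ ω : Dual.D R, Dual.IsDualizing R ω) :
    IsOpen {q : Spec (CommRingCat.of R) | LocCoh.IsGorensteinLocalRing ((Spec (CommRingCat.of R)).presheaf.stalk q)} := by
  obtain ⟨ω, hω⟩ := h
  have e : {q : Spec (CommRingCat.of R) | LocCoh.IsGorensteinLocalRing ((Spec (CommRingCat.of R)).presheaf.stalk q)} =
      {q : PrimeSpectrum R | LocCoh.IsGorensteinLocalRing (Localization.AtPrime q.asIdeal)} :=
    Set.ext fun q => gorenstein_stalk_iff (CommRingCat.of R) q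
  rw [e]
  exact Dlz27.isOpen_gorenstein hω

/-- Over a base point with Gorenstein local ring, being Gorenstein at a point means that the local ring is Gorenstein. -/
theorem isGorensteinAt_iff_stalk {X Y : Scheme.{u}} [IsLocallyNoetherian Y] [IsLocallyNoetherian X]
    (f : X ⟶ Y) [Flat f] (x : X) (hY : LocCoh.IsGorensteinLocalRing (Y.presheaf.stalk (f x))) :
    Dual3.IsGorensteinAt f x ↔ LocCoh.IsGorensteinLocalRing (X.presheaf.stalk x) := by
  refine ⟨fun H => ?_, fun H => (Goren15.isGorensteinAt_of_flat f x (Flat.stalkMap f x) H).1⟩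
  rw [Goren15.isGorensteinAt_iff] at H
  algebraize [(f.stalkMap x).hom]
  haveI : IsLocalHom (algebraMap (Y.presheaf.stalk (f x)) (X.presheaf.stalk x)) :=
    inferInstanceAs (IsLocalHom (f.stalkMap x).hom)
  haveI : Module.Flat (Y.presheaf.stalk (f x)) (X.presheaf.stalk x) := Flat.stalkMap f x
  exact (Goren15.gorenstein_flat_local_iff (Y.presheaf.stalk (f x)) (X.presheaf.stalk x)).2 ⟨hY, H.2⟩

theorem gorensteinAt_of_isPullback {X Y X' Y' : Scheme.{u}} {f : X ⟶ Y} [Flat f] [LocallyOfFiniteType f]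
    {g : Y' ⟶ Y} {f' : X' ⟶ Y'} {g' : X' ⟶ X} [IsLocallyNoetherian Y'] (sq : IsPullback g' f' f g) (x' : X')
    (h : LocCoh.IsGorensteinLocalRing (X'.presheaf.stalk x')) : Dual3.IsGorensteinAt f (g' x') := by
  haveI : Flat f' := MorphismProperty.of_isPullback (P := @Flat) sq ‹_›
  exact (Goren15.isGorensteinAt_baseChange_iff_of_flat f g f' g' sq x').1
    (Goren15.isGorensteinAt_of_flat f' x' (Flat.stalkMap f' x') h).1

section

variable (A B : Type u) [CommRing A] [CommRing B] [Algebra A B]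

/-- The structure morphism of an affine model. -/
abbrev str : Spec (CommRingCat.of B) ⟶ Spec (CommRingCat.of A) :=
  Spec.map (CommRingCat.ofHom (algebraMap A B))

variable [Algebra.FiniteType A B] [Module.Flat A B]

instance : Flat (str A B) := by
  rw [Flat.SpecMap_iff]; exact RingHom.flat_algebraMap_iff.2 ‹_›

instance : LocallyOfFiniteType (str A B) := by
  rw [HasRingHomProperty.Spec_iff (P := @LocallyOfFiniteType)]; exact RingHom.finiteType_algebraMap.2 ‹_›

/-- Reading the locus on a base change. -/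
theorem isGorensteinAt_str_iff (D : Type u) [CommRing D] [Algebra A D] [IsNoetherianRing D]
    (r : PrimeSpectrum (D ⊗[A] B))
    (hD : LocCoh.IsGorensteinLocalRing
      (Localization.AtPrime ((PrimeSpectrum.comap (algebraMap D (D ⊗[A] B)) r).asIdeal))) :
    Dual3.IsGorensteinAt (str A B)
        (PrimeSpectrum.comap (Algebra.TensorProduct.includeRight : B →ₐ[A] D ⊗[A] B).toRingHom r) ↔
      LocCoh.IsGorensteinLocalRing ((Spec (CommRingCat.of (D ⊗[A] B))).presheaf.stalk r) := by
  haveI : IsNoetherianRing (D ⊗[A] B) := Algebra.FiniteType.isNoetherianRing D (D ⊗[A] B)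
  have sq : IsPullback (Spec.map (CommRingCat.ofHom (Algebra.TensorProduct.includeRight : B →ₐ[A] D ⊗[A] B).toRingHom))
      (str D (D ⊗[A] B)) (str A B) (Spec.map (CommRingCat.ofHom (algebraMap A D))) :=
    (isPullback_SpecMap_of_isPushout _ _ _ _ (CommRingCat.isPushout_tensorProduct A D B)).flip
  exact (Goren15.isGorensteinAt_baseChange_iff_of_flat (str A B) _ (str D (D ⊗[A] B)) _ sq r).symm.trans
    (isGorensteinAt_iff_stalk (str D (D ⊗[A] B)) r ((gorenstein_stalk_iff (CommRingCat.of D) _).2 hD))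

/-- Gorenstein points of the model are stable under generization. -/
theorem generization [IsNoetherianRing A] (p q : PrimeSpectrum B) (hpq : p.asIdeal ≤ q.asIdeal)
    (hq : Dual3.IsGorensteinAt (str A B) q) : Dual3.IsGorensteinAt (str A B) p := by
  rcases eq_or_lt_of_le hpq with h | h
  · rwa [PrimeSpectrum.ext h]
  haveI : IsNoetherianRing B := Algebra.FiniteType.isNoetherianRing A B
  let O := Localization.AtPrime q.asIdeal
  haveI : IsNoetherianRing O := IsLocalization.isNoetherianRing q.asIdeal.primeCompl _ inferInstance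
  let L := p.asIdeal.ResidueField
  have hu : ∀ y : q.asIdeal.primeCompl, IsUnit (algebraMap B L y) := fun y => by
    refine isUnit_iff_ne_zero.2 fun h0 => y.2 (hpq ?_)
    exact Ideal.algebraMap_residueField_eq_zero.1 h0
  let φ : O →+* L := IsLocalization.lift hu
  have hφe : φ.comp (algebraMap B O) = algebraMap B L := IsLocalization.lift_comp hu
  have hφ : φ.EssFiniteType := by
    refine RingHom.EssFiniteType.of_comp (algebraMap B O) ?_
    rw [hφe]
    exact RingHom.essFiniteType_algebraMap.2 inferInstance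
  have hne : RingHom.ker φ ≠ IsLocalRing.maximalIdeal O := fun e => by
    refine (SetLike.lt_iff_le_and_exists.1 h).2.elim fun b hb => hb.2 ?_
    have : algebraMap B O b ∈ RingHom.ker φ := by
      rw [e, ← Localization.AtPrime.map_eq_maximalIdeal]
      exact Ideal.mem_map_of_mem _ hb.1
    rw [RingHom.mem_ker, ← RingHom.comp_apply, hφe] at this
    exact Ideal.algebraMap_residueField_eq_zero.1 this
  obtain ⟨V, _, hV, hV'⟩ := DVRVal.exists_dvr O L φ hφ hne
  haveI : IsRegularRing V := inferInstance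
  let j : B →+* V := (φ.comp (algebraMap B O)).codRestrict V.toSubring fun b => hV _
  letI : Algebra A V := (j.comp (algebraMap A B)).toAlgebra
  let jA : B →ₐ[A] V := { j with commutes' := fun a => rfl }
  let μ : V ⊗[A] B →+* V := (Algebra.TensorProduct.lift (AlgHom.id A V) jA fun x y => Commute.all _ _).toRingHom
  have hμ : ∀ b : B, μ (1 ⊗ₜ b) = j b := fun b => by simp [μ, jA]
  let r₁ : PrimeSpectrum (V ⊗[A] B) := PrimeSpectrum.comap μ (IsLocalRing.closedPoint V)
  let r₀ : PrimeSpectrum (V ⊗[A] B) := ⟨RingHom.ker μ, RingHom.ker_isPrime μ⟩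
  let ι : B →+* V ⊗[A] B := (Algebra.TensorProduct.includeRight : B →ₐ[A] V ⊗[A] B).toRingHom
  have hr₀ : PrimeSpectrum.comap ι r₀ = p := by
    refine PrimeSpectrum.ext (Ideal.ext fun b => ?_)
    show μ (1 ⊗ₜ b) = 0 ↔ _
    rw [hμ, ← Subtype.coe_inj]
    show φ (algebraMap B O b) = 0 ↔ _
    rw [← RingHom.comp_apply, hφe]
    exact Ideal.algebraMap_residueField_eq_zero
  have hr₁ : PrimeSpectrum.comap ι r₁ = q := by
    refine PrimeSpectrum.ext (Ideal.ext fun b => ?_)
    show μ (1 ⊗ₜ b) ∈ IsLocalRing.maximalIdeal V ↔ _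
    rw [hμ, ValuationSubring.valuation_lt_one_iff]
    refine ⟨fun hlt => ?_, fun hb => hV' _ ?_⟩
    · by_contra hb
      obtain ⟨c, hc⟩ := (IsLocalization.map_units O (⟨b, hb⟩ : q.asIdeal.primeCompl)).exists_right_inv
      have h1 : φ (algebraMap B O b) * φ c = 1 := by rw [← map_mul, hc, map_one]
      have h2 := congrArg V.valuation h1
      rw [map_mul, map_one] at h2
      exact (ne_of_lt (lt_of_le_of_lt (mul_le_of_le_one_right' ((V.valuation_le_one_iff _).2 (hV c))) hlt)) h2
    · rw [← Localization.AtPrime.map_eq_maximalIdeal]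
      exact Ideal.mem_map_of_mem _ hb
  have hG : ∀ r : PrimeSpectrum V, LocCoh.IsGorensteinLocalRing (Localization.AtPrime r.asIdeal) := fun r =>
    @S0342.result _ _ inferInstance
  haveI : IsNoetherianRing (V ⊗[A] B) := Algebra.FiniteType.isNoetherianRing V (V ⊗[A] B)
  have hop := isOpen_gorenstein_stalk (V ⊗[A] B) (exists_isDualizing_of_dedekind V (V ⊗[A] B))
  have h₁ := (isGorensteinAt_str_iff A B V r₁ (hG _)).1 (by rw [hr₁]; exact hq)
  have hsp : r₀ ⤳ r₁ := (PrimeSpectrum.le_iff_specializes r₀ r₁).1 fun x hx => by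
    show μ x ∈ IsLocalRing.maximalIdeal V
    rw [RingHom.mem_ker.1 hx]
    exact zero_mem _
  have h₀ := hsp.mem_open hop h₁
  have := (isGorensteinAt_str_iff A B V r₀ (hG _)).2 h₀
  rwa [hr₀] at this

theorem gorensteinAt_of_stalk (D : Type u) [CommRing D] [Algebra A D] [IsNoetherianRing D]
    (r : PrimeSpectrum (D ⊗[A] B))
    (h : LocCoh.IsGorensteinLocalRing ((Spec (CommRingCat.of (D ⊗[A] B))).presheaf.stalk r)) :
    Dual3.IsGorensteinAt (str A B)
      (PrimeSpectrum.comap (Algebra.TensorProduct.includeRight : B →ₐ[A] D ⊗[A] B).toRingHom r) := by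
  have sq : IsPullback (Spec.map (CommRingCat.ofHom (Algebra.TensorProduct.includeRight : B →ₐ[A] D ⊗[A] B).toRingHom))
      (str D (D ⊗[A] B)) (str A B) (Spec.map (CommRingCat.ofHom (algebraMap A D))) :=
    (isPullback_SpecMap_of_isPushout _ _ _ _ (CommRingCat.isPushout_tensorProduct A D B)).flip
  exact gorensteinAt_of_isPullback (X' := Spec (CommRingCat.of (D ⊗[A] B))) sq r h

omit [Algebra.FiniteType A B] [Module.Flat A B] in
theorem includeRight_surjective (P : Ideal A) :
    Function.Surjective (Algebra.TensorProduct.includeRight : B →ₐ[A] (A ⧸ P) ⊗[A] B).toRingHom := by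
  intro z
  induction z with
  | zero => exact ⟨0, map_zero _⟩
  | add x y hx hy =>
    obtain ⟨a, rfl⟩ := hx; obtain ⟨b, rfl⟩ := hy
    exact ⟨a + b, map_add _ _ _⟩
  | tmul d b =>
    obtain ⟨a, rfl⟩ := Ideal.Quotient.mk_surjective d
    refine ⟨a • b, ?_⟩
    show (1 : A ⧸ P) ⊗ₜ[A] (a • b) = _
    rw [← TensorProduct.smul_tmul]
    congr 1
    exact (Algebra.smul_def a (1 : A ⧸ P)).trans (mul_one _)

omit [Algebra.FiniteType A B] [Module.Flat A B] in
theorem exists_comap_includeRight (P : Ideal A) (q : PrimeSpectrum B) (hq : P ≤ q.asIdeal.comap (algebraMap A B)) :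
    ∃ r : PrimeSpectrum ((A ⧸ P) ⊗[A] B),
      PrimeSpectrum.comap (Algebra.TensorProduct.includeRight : B →ₐ[A] (A ⧸ P) ⊗[A] B).toRingHom r = q := by
  let μ : (A ⧸ P) ⊗[A] B →ₐ[A] B ⧸ q.asIdeal :=
    Algebra.TensorProduct.lift (Ideal.Quotient.liftₐ P (Algebra.ofId A (B ⧸ q.asIdeal))
      fun a ha => Ideal.Quotient.eq_zero_iff_mem.2 (hq ha))
      (Ideal.Quotient.mkₐ A q.asIdeal) fun x y => Commute.all _ _
  refine ⟨⟨RingHom.ker μ.toRingHom, RingHom.ker_isPrime _⟩, PrimeSpectrum.ext (Ideal.ext fun b => ?_)⟩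
  show μ ((1 : A ⧸ P) ⊗ₜ[A] b) = 0 ↔ _
  rw [Algebra.TensorProduct.lift_tmul, map_one, one_mul]
  exact Ideal.Quotient.eq_zero_iff_mem

theorem gorenstein_bot (D : Type u) [CommRing D] [IsDomain D] (P : Ideal D) [P.IsPrime] (hP : P = ⊥) :
    LocCoh.IsGorensteinLocalRing (Localization.AtPrime P) := by
  subst hP
  haveI : IsLocalization.AtPrime (FractionRing D) (⊥ : Ideal D) := by
    show IsLocalization _ _
    rw [Ideal.primeCompl_bot]
    infer_instance
  refine (Goren15.isGorensteinLocalRing_iff_of_ringEquiv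
    (IsLocalization.algEquiv (⊥ : Ideal D).primeCompl (Localization.AtPrime (⊥ : Ideal D)) (FractionRing D)).toRingEquiv).2 ?_
  exact Goren15.gorenstein_of_injective _ (Module.injective_of_isSemisimpleRing _ _)

theorem nagata_aux (D : Type u) [CommRing D] [IsDomain D] [Algebra A D] [Algebra.FiniteType ℤ D]
    (hsurj : Function.Surjective (Algebra.TensorProduct.includeRight : B →ₐ[A] D ⊗[A] B).toRingHom)
    (p : PrimeSpectrum B) (hp : Dual3.IsGorensteinAt (str A B) p) (r : PrimeSpectrum (D ⊗[A] B))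
    (hr : PrimeSpectrum.comap (Algebra.TensorProduct.includeRight : B →ₐ[A] D ⊗[A] B).toRingHom r = p)
    (hbot : (PrimeSpectrum.comap (algebraMap D (D ⊗[A] B)) r).asIdeal = ⊥)
    (hlift : ∀ q : PrimeSpectrum B, p.asIdeal ≤ q.asIdeal → ∃ r' : PrimeSpectrum (D ⊗[A] B),
      PrimeSpectrum.comap (Algebra.TensorProduct.includeRight : B →ₐ[A] D ⊗[A] B).toRingHom r' = q) :
    ∃ f : B, f ∉ p.asIdeal ∧ ∀ q : PrimeSpectrum B, p.asIdeal ≤ q.asIdeal → f ∉ q.asIdeal →
      Dual3.IsGorensteinAt (str A B) q := by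
  haveI : IsNoetherianRing D := Algebra.FiniteType.isNoetherianRing ℤ D
  haveI : IsNoetherianRing (D ⊗[A] B) := Algebra.FiniteType.isNoetherianRing D (D ⊗[A] B)
  have hT := finiteType_int_trans D (D ⊗[A] B)
  have hrW := (isGorensteinAt_str_iff A B D r (gorenstein_bot _ _ hbot)).1 (by rw [hr]; exact hp)
  have hW := isOpen_gorenstein_stalk (D ⊗[A] B) (@exists_isDualizing_of_finiteType_int _ _ hT)
  obtain ⟨O, hO, hOe⟩ :=
    (PrimeSpectrum.isClosedEmbedding_comap_of_surjective _ _ hsurj).isInducing.isOpen_iff.1 hW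
  have hpO : p ∈ O := by rw [← hr]; exact (Set.ext_iff.1 hOe r).2 hrW
  obtain ⟨_, ⟨f, rfl⟩, hf, hfO⟩ := PrimeSpectrum.isTopologicalBasis_basic_opens.exists_subset_of_mem_open hpO hO
  refine ⟨f, hf, fun q hq hfq => ?_⟩
  obtain ⟨r', rfl⟩ := hlift q hq
  have hmem : r' ∈ {q : Spec (CommRingCat.of (D ⊗[A] B)) |
      LocCoh.IsGorensteinLocalRing ((Spec (CommRingCat.of (D ⊗[A] B))).presheaf.stalk q)} :=
    (Set.ext_iff.1 hOe r').1 (hfO hfq)
  exact gorensteinAt_of_stalk A B D r' hmem

/-- Near a Gorenstein point, the points of its closure are Gorenstein. -/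
theorem nagata [Algebra.FiniteType ℤ A] (p : PrimeSpectrum B) (hp : Dual3.IsGorensteinAt (str A B) p) :
    ∃ f : B, f ∉ p.asIdeal ∧ ∀ q : PrimeSpectrum B, p.asIdeal ≤ q.asIdeal → f ∉ q.asIdeal →
      Dual3.IsGorensteinAt (str A B) q := by
  let P := p.asIdeal.comap (algebraMap A B)
  obtain ⟨r, hr⟩ := exists_comap_includeRight A B P p le_rfl
  haveI : Algebra.FiniteType A (A ⧸ P) :=
    Algebra.FiniteType.of_surjective (Algebra.ofId A (A ⧸ P)) Ideal.Quotient.mk_surjective
  have hD := finiteType_int_trans A (A ⧸ P)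
  refine @nagata_aux A B _ _ _ _ _ (A ⧸ P) _ _ _ hD (includeRight_surjective A B P) p hp r hr ?_
    fun q hq => exists_comap_includeRight A B P q (Ideal.comap_mono hq)
  refine eq_bot_iff.2 fun d hd => ?_
  obtain ⟨a, rfl⟩ := Ideal.Quotient.mk_surjective d
  refine Ideal.mem_bot.2 (Ideal.Quotient.eq_zero_iff_mem.2 ?_)
  show algebraMap A B a ∈ p.asIdeal
  rw [← hr]
  show (Algebra.TensorProduct.includeRight : B →ₐ[A] (A ⧸ P) ⊗[A] B) (algebraMap A B a) ∈ r.asIdeal
  rw [AlgHom.commutes, IsScalarTower.algebraMap_apply A (A ⧸ P) ((A ⧸ P) ⊗[A] B) a]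
  exact hd

/-- The Gorenstein locus of a flat model of finite type over `ℤ` is open. -/
theorem isOpen_model [Algebra.FiniteType ℤ A] :
    IsOpen {q : Spec (CommRingCat.of B) | Dual3.IsGorensteinAt (str A B) q} := by
  haveI : IsNoetherianRing A := Algebra.FiniteType.isNoetherianRing ℤ A
  haveI : IsNoetherianRing B := Algebra.FiniteType.isNoetherianRing A B
  exact FlatDepth.isOpen_of_nagata _ (fun p q h => generization A B p q h) (nagata A B)

end

end Groth.Agent.GorOpen27
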